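import Groth.Agent.AVDegLib.Pull
import Groth.Agent.GrpSchLib.SmoothReduced

/-! Functoriality and faithfulness of the map on function fields. -/

noncomputable section

set_option linter.style.haveILetI false
set_option autoImplicit false
set_option backward.isDefEq.respectTransparency false
set_option backward.isDefEq.respectTransparency.types false

universe u

open CategoryTheory CategoryTheory.Limits AlgebraicGeometry TopologicalSpace Opposite

namespace Groth.Agent.AVDegLib

variable {k : Type u} [Field k] {A B C : Over (Spec (CommRingCat.of k))} [IsIntegral A.left] [IsIntegral B.left]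
  [IsIntegral C.left]

theorem ffMap_comp_apply (f : A ⟶ B) [IsFinite f.left] [Surjective f.left] (g : B ⟶ C) [IsFinite g.left]
    [Surjective g.left] (h : A ⟶ C) [IsFinite h.left] [Surjective h.left] (hfg : f ≫ g = h) (x : C.left.functionField) :
    ffMap f (ffMap g x) = ffMap h x := by
  subst hfg
  obtain ⟨U, hU, a, rfl⟩ := TopCat.Presheaf.germ_exist C.left.presheaf x
  change ffMap f (ffMap g (gm U hU a)) = ffMap (f ≫ g) (gm U hU a)
  rw [ffMap_gm, ffMap_gm, ffMap_gm]
  rfl

theorem fromSpecStalk_comp (f : A ⟶ B) [IsFinite f.left] [Surjective f.left] :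
    A.left.fromSpecStalk (genericPoint A.left) ≫ f.left =
      Spec.map (CommRingCat.ofHom (ffMap f)) ≫ B.left.fromSpecStalk (genericPoint B.left) := by
  rw [← Scheme.SpecMap_stalkMap_fromSpecStalk, ← Scheme.SpecMap_stalkSpecializes_fromSpecStalk
    (show f.left (genericPoint A.left) ⤳ genericPoint B.left by rw [map_eta]), ← Spec.map_comp_assoc]
  rfl

theorem eq_of_ffMap_eq [IsSeparated B.hom] (f g : A ⟶ B) [IsFinite f.left] [Surjective f.left] [IsFinite g.left]
    [Surjective g.left] (h : ffMap f = ffMap g) : f = g := by
  haveI : IsDominant (A.left.fromSpecStalk (genericPoint A.left)) := by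
    refine ⟨dense_iff_closure_eq.2 (Set.eq_univ_of_univ_subset ?_)⟩
    rw [← (genericPoint_spec A.left).def]
    refine closure_mono (Set.singleton_subset_iff.2 ?_)
    rw [Scheme.range_fromSpecStalk]
    exact specializes_refl _
  refine Over.OverMorphism.ext (ext_of_isDominant_of_isSeparated B.hom ((Over.w f).trans (Over.w g).symm)
    (A.left.fromSpecStalk (genericPoint A.left)) ?_)
  rw [fromSpecStalk_comp, fromSpecStalk_comp, h]

end Groth.Agent.AVDegLib
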